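import Groth.Agent.H9Hens.ProperPair
import Groth.Agent.H9Hens.LocalHens
import Groth.Agent.H8Props.Reduced
import Groth.Agent.H18Et.FEtRestrictGamma
import Mathlib.AlgebraicGeometry.Fiber
import Mathlib.AlgebraicGeometry.Morphisms.Flat

/-!
# Idempotents on a fibre of a proper morphism come from nearby sections
-/

set_option autoImplicit false
set_option linter.style.haveILetI false
set_option linter.unusedSectionVars false

noncomputable section

universe u

open CategoryTheory CategoryTheory.Limits AlgebraicGeometry Opposite TopologicalSpace IsLocalRing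

namespace Groth.Agent.LeadIdem

/-- Idempotents with the same non-vanishing locus agree. -/
theorem eq_of_basicOpen_eq {Z : Scheme.{u}} [CompactSpace Z] {a b : Γ(Z, ⊤)} (ha : IsIdempotentElem a)
    (hb : IsIdempotentElem b) (h : Z.basicOpen a = Z.basicOpen b) : a = b := by
  have key : ∀ {c d : Γ(Z, ⊤)}, IsIdempotentElem c → IsIdempotentElem d → Z.basicOpen c = Z.basicOpen d →
      c * (1 - d) = 0 := fun {c d} hc hd hcd => by
    have h0 : Z.basicOpen (c * (1 - d)) = ⊥ := by
      rw [Scheme.basicOpen_mul, hcd, ← Scheme.basicOpen_mul, hd.mul_one_sub_self, Scheme.basicOpen_zero]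
    exact (hc.mul hd.one_sub).eq_zero_of_isNilpotent ((Scheme.isNilpotent_iff_basicOpen_eq_bot _).2 h0)
  linear_combination key ha hb h - key hb ha h.symm

/-- Every element of a pushout of rings lies in a subring containing both images. -/
theorem mem_of_isPushout {P A B C : CommRingCat.{u}} {p : P ⟶ A} {q : P ⟶ B} {a : A ⟶ C} {b : B ⟶ C}
    (h : IsPushout p q a b) (G : Subring C) (ha : ∀ x, a x ∈ G) (hb : ∀ x, b x ∈ G) (c : C) : c ∈ G := by
  let a' : A ⟶ CommRingCat.of G := CommRingCat.ofHom (a.hom.codRestrict G ha)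
  let b' : B ⟶ CommRingCat.of G := CommRingCat.ofHom (b.hom.codRestrict G hb)
  have hw : p ≫ a' = q ≫ b' :=
    CommRingCat.hom_ext (RingHom.ext fun x => Subtype.ext (congr($(h.w) x)))
  let i : CommRingCat.of G ⟶ C := CommRingCat.ofHom G.subtype
  have e : h.desc a' b' hw ≫ i = 𝟙 C := h.hom_ext
    (by rw [h.inl_desc_assoc, Category.comp_id]; rfl) (by rw [h.inr_desc_assoc, Category.comp_id]; rfl)
  rw [← show i (h.desc a' b' hw c) = c from congr($e c)]
  exact (h.desc a' b' hw c).2

theorem appLE_congr_hom {Z W : Scheme.{u}} {a b : Z ⟶ W} (h : a = b) (U : W.Opens) (V : Z.Opens) (ha : V ≤ a ⁻¹ᵁ U)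
    (hb : V ≤ b ⁻¹ᵁ U) (y : Γ(W, U)) : a.appLE U V ha y = b.appLE U V hb y := by subst h; rfl

/-- Functions at a point read in the residue field. -/
theorem fromSpecResidueField_appLE (S : Scheme.{u}) (s : S) (U : S.Opens) (hsU : s ∈ U)
    (h : (⊤ : (Spec (S.residueField s)).Opens) ≤ S.fromSpecResidueField s ⁻¹ᵁ U) (y : Γ(S, U)) :
    (S.fromSpecResidueField s).appLE U ⊤ h y =
      (Scheme.ΓSpecIso (S.residueField s)).inv (S.residue s (S.presheaf.germ U s hsU y)) := by
  have h1 : (S.fromSpecResidueField s).appLE U ⊤ h =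
      S.presheaf.germ U s hsU ≫ S.residue s ≫ (Scheme.ΓSpecIso (S.residueField s)).inv := by
    show (Spec.map (S.residue s) ≫ S.fromSpecStalk s).appLE U ⊤ h = _
    rw [Scheme.Hom.comp_appLE, Scheme.fromSpecStalk_app hsU, Category.assoc,
      Category.assoc, Scheme.Hom.map_appLE]
    refine congrArg (S.presheaf.germ U s hsU ≫ ·) ?_
    rw [show (Spec.map (S.residue s)).appLE ⊤ ⊤ (fun _ _ => trivial) = (Spec.map (S.residue s)).appTop from
      (Scheme.Hom.app_eq_appLE _).symm]
    exact (Scheme.ΓSpecIso_inv_naturality _).symm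
  rw [h1]
  rfl

variable {X S : Scheme.{u}} (f : X ⟶ S)

/-- An idempotent on a fibre of a proper morphism, times a function invertible at the point, lifts. -/
theorem exists_lift_mul [IsProper f] (s : S) (e : Γ(f.fiber s, ⊤)) (he : IsIdempotentElem e)
    (U : S.Opens) (hU : IsAffineOpen U) (hsU : s ∈ U) :
    ∃ (r : Γ(S, U)) (a : Γ(X, f ⁻¹ᵁ U)) (hle : (⊤ : (f.fiber s).Opens) ≤ f.fiberι s ⁻¹ᵁ (f ⁻¹ᵁ U)),
      s ∈ S.basicOpen r ∧
        (f.fiberι s).appLE (f ⁻¹ᵁ U) ⊤ hle a = (f.fiberι s).appLE (f ⁻¹ᵁ U) ⊤ hle (f.app U r) * e := by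
  obtain ⟨H, _, _, _, _, π, hπ, -⟩ := H9Hens.exists_isHenselization_colim (S.presheaf.stalk s)
  haveI := hπ.henselianLocalRing
  haveI := hπ.flat
  have hπs : Function.Surjective π := fun c => by
    obtain ⟨x, rfl⟩ := residue_surjective c
    exact ⟨algebraMap _ H x, π.commutes x⟩
  let g : Spec (CommRingCat.of H) ⟶ S :=
    Spec.map (CommRingCat.ofHom (algebraMap (S.presheaf.stalk s) H)) ≫ S.fromSpecStalk s
  haveI : Flat (Spec.map (CommRingCat.ofHom (algebraMap (S.presheaf.stalk s) H))) := by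
    rw [HasRingHomProperty.Spec_iff (P := @Flat)]
    exact RingHom.flat_algebraMap_iff.2 hπ.flat
  haveI : Flat g := inferInstanceAs (Flat (_ ≫ _))
  let j : Spec (S.residueField s) ⟶ Spec (CommRingCat.of H) := Spec.map (CommRingCat.ofHom π.toRingHom)
  haveI : IsClosedImmersion j := IsClosedImmersion.spec_of_surjective _ hπs
  have hjg : j ≫ g = S.fromSpecResidueField s := by
    show Spec.map _ ≫ Spec.map _ ≫ _ = Spec.map (S.residue s) ≫ _
    rw [← Category.assoc, ← Spec.map_comp]
    refine congrArg (fun z => Spec.map z ≫ S.fromSpecStalk s) (CommRingCat.hom_ext (RingHom.ext fun x => ?_))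
    exact π.commutes x
  -- the base change to the henselization
  let q₁ := pullback.fst f g
  let q₂ := pullback.snd f g
  haveI : IsProper q₂ := MorphismProperty.pullback_snd f g inferInstance
  have hw : f.fiberι s ≫ f = (f.fiberToSpecResidueField s ≫ j) ≫ g := by
    rw [Category.assoc, hjg]
    exact pullback.condition
  let ι : f.fiber s ⟶ pullback f g := pullback.lift (f.fiberι s) (f.fiberToSpecResidueField s ≫ j) hw
  have hι : IsPullback ι (f.fiberToSpecResidueField s) q₂ j := by
    refine IsPullback.of_right ?_ (pullback.lift_snd _ _ hw) (IsPullback.of_hasPullback f g)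
    rw [pullback.lift_fst, hjg]
    exact IsPullback.of_hasPullback f (S.fromSpecResidueField s)
  haveI : IsClosedImmersion ι := MorphismProperty.of_isPullback hι.flip ‹IsClosedImmersion j›
  have hr : Set.range ι = q₂ ⁻¹' PrimeSpectrum.zeroLocus (maximalIdeal H : Set H) := by
    have hj : Set.range j = PrimeSpectrum.zeroLocus (maximalIdeal H : Set H) := by
      rw [hπ.maximalIdeal_eq]
      exact range_comap_of_surjective _ π.toRingHom hπs
    rw [← hj, ← Scheme.Pullback.range_fst, ← hι.isoPullback_hom_fst, Scheme.Hom.comp_base, TopCat.coe_comp,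
      Set.range_comp, Set.range_eq_univ.2 hι.isoPullback.hom.surjective, Set.image_univ]
  have h := H9Hens.ProperPair.uniqueLift_proper (maximalIdeal H) q₂
  rw [← hr] at h
  let h₀ := ι.isEmbedding.toHomeomorph
  obtain ⟨W, ⟨hW, hWV⟩, -⟩ := h (h₀.symm ⁻¹' ((f.fiber s).basicOpen e : Set (f.fiber s))) (by
    refine IsClopen.preimage ⟨?_, (Scheme.basicOpen _ e).2⟩ h₀.symm.continuous
    rw [← isOpen_compl_iff]
    have : ((f.fiber s).basicOpen e : Set (f.fiber s))ᶜ = (f.fiber s).basicOpen (1 - e) := by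
      ext z
      rw [Set.mem_compl_iff, SetLike.mem_coe, SetLike.mem_coe, Scheme.mem_basicOpen_top, Scheme.mem_basicOpen_top,
        map_sub, map_one]
      have hg := he.map ((f.fiber s).presheaf.germ ⊤ z trivial).hom
      rcases IsLocalRing.isUnit_or_isUnit_one_sub_self ((f.fiber s).presheaf.germ ⊤ z trivial e) with h | h
      · have h1 : (f.fiber s).presheaf.germ ⊤ z trivial e = 1 := h.mul_left_cancel (by rw [mul_one]; exact hg.eq)
        rw [h1, sub_self]; simp
      · have h0 : (f.fiber s).presheaf.germ ⊤ z trivial e = 0 := h.mul_right_eq_zero.1 hg.one_sub_mul_self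
        rw [h0, sub_zero]; simp
    refine this.symm ▸ ?_
    exact ((f.fiber s).basicOpen (1 - e)).2)
  obtain ⟨t, ht, htW⟩ := H18Et.FEtRestrictGamma.exists_idempotent_of_isClopen W hW
  have hte : ι.appTop t = e := by
    refine eq_of_basicOpen_eq ((show IsIdempotentElem t from ht).map ι.appTop.hom) he ?_
    rw [← Scheme.preimage_basicOpen_top]
    ext z
    have hz := Set.ext_iff.1 hWV (h₀ z)
    rw [Set.mem_preimage, Set.mem_preimage, Homeomorph.symm_apply_apply] at hz
    show ι z ∈ ((pullback f g).basicOpen t : Set _) ↔ _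
    rw [htW]
    exact hz
  -- sections of the base change
  have hrange : ∀ z : Spec (CommRingCat.of H), g z ∈ U := fun z => by
    have : g z ⤳ s := by
      show (S.fromSpecStalk s) _ ∈ {y | y ⤳ s}
      rw [← Scheme.range_fromSpecStalk]
      exact Set.mem_range_self _
    exact this.mem_open U.2 hsU
  have hUT : (⊤ : (Spec (CommRingCat.of H)).Opens) ≤ g ⁻¹ᵁ U := fun z _ => hrange z
  have hUY : (⊤ : (pullback f g).Opens) = q₁ ⁻¹ᵁ (f ⁻¹ᵁ U) ⊓ q₂ ⁻¹ᵁ ⊤ := by
    refine (top_le_iff.1 fun z _ => ⟨?_, trivial⟩).symm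
    show f (q₁ z) ∈ U
    rw [← Scheme.Hom.comp_apply, pullback.condition, Scheme.Hom.comp_apply]
    exact hrange _
  haveI := isIso_pushoutSection_of_isQuasiSeparated_of_flat_right (IsPullback.of_hasPullback f g) hUT le_rfl hUY
    hU (isAffineOpen_top _) (f.isCompact_preimage hU.isCompact)
    (f.isQuasiSeparated_preimage hU.isQuasiSeparated)
  have hpo := (isIso_pushoutSection_iff (IsPullback.of_hasPullback f g) hUT le_rfl hUY).1 inferInstance
  have hle : (⊤ : (f.fiber s).Opens) ≤ f.fiberι s ⁻¹ᵁ (f ⁻¹ᵁ U) := fun z _ => by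
    show f.fiberι s z ∈ f ⁻¹ᵁ U
    rw [← pullback.lift_fst (f.fiberι s) (f.fiberToSpecResidueField s ≫ j) hw]
    exact (hUY.le trivial : ι z ∈ _).1
  let ρ : Γ(X, f ⁻¹ᵁ U) →+* Γ(f.fiber s, ⊤) := ((f.fiberι s).appLE (f ⁻¹ᵁ U) ⊤ hle).hom
  let σ : Γ(S, U) →+* Γ(f.fiber s, ⊤) := ρ.comp (f.app U).hom
  let G : Subring Γ(pullback f g, ⊤) :=
    { carrier := {c | ∃ r : Γ(S, U), s ∈ S.basicOpen r ∧ ∃ a, ρ a = σ r * ι.appTop c}
      mul_mem' := by
        rintro c c' ⟨r, hr, a, ha⟩ ⟨r', hr', a', ha'⟩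
        exact ⟨r * r', by rw [Scheme.basicOpen_mul]; exact ⟨hr, hr'⟩, a * a', by
          rw [map_mul ρ, map_mul σ, map_mul ι.appTop.hom, ha, ha']; ring⟩
      one_mem' := ⟨1, by rw [Scheme.basicOpen_of_isUnit _ isUnit_one]; exact hsU, 1, by
        rw [map_one ρ, map_one σ, map_one ι.appTop.hom, one_mul]⟩
      add_mem' := by
        rintro c c' ⟨r, hr, a, ha⟩ ⟨r', hr', a', ha'⟩
        exact ⟨r * r', by rw [Scheme.basicOpen_mul]; exact ⟨hr, hr'⟩, f.app U r' * a + f.app U r * a', by
          rw [map_add ρ, map_mul ρ, map_mul ρ, map_mul σ, map_add ι.appTop.hom, ha, ha']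
          show σ r' * _ + σ r * _ = _
          ring⟩
      zero_mem' := ⟨1, by rw [Scheme.basicOpen_of_isUnit _ isUnit_one]; exact hsU, 0, by
        rw [map_zero ρ, map_zero ι.appTop.hom, mul_zero]⟩
      neg_mem' := by
        rintro c ⟨r, hr, a, ha⟩
        exact ⟨r, hr, -a, by rw [map_neg ρ, map_neg ι.appTop.hom, ha, mul_neg]⟩ }
  have hG : ∀ c, c ∈ G := by
    refine mem_of_isPushout hpo G (fun a => ?_) fun c => ?_
    · refine ⟨1, by rw [Scheme.basicOpen_of_isUnit _ isUnit_one]; exact hsU, a, ?_⟩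
      rw [map_one σ, one_mul, show ι.appTop = ι.appLE ⊤ ⊤ (fun _ _ => trivial) from (ι.app_eq_appLE).trans rfl,
        ← CommRingCat.comp_apply, Scheme.Hom.appLE_comp_appLE]
      simp only [pullback.lift_fst, ι]
      rfl
    · let c₀ : S.residueField s := π ((Scheme.ΓSpecIso (CommRingCat.of H)).hom c)
      obtain ⟨x, hx⟩ := S.residue_surjective s c₀
      letI := TopCat.Presheaf.algebra_section_stalk S.presheaf (⟨s, hsU⟩ : U)
      haveI := hU.isLocalization_stalk ⟨s, hsU⟩
      obtain ⟨⟨a, ⟨r, hr⟩⟩, har⟩ :=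
        IsLocalization.surj (hU.primeIdealOf ⟨s, hsU⟩).asIdeal.primeCompl x
      refine ⟨r, ?_, f.app U a, ?_⟩
      · rw [S.mem_basicOpen r s hsU]
        exact IsLocalization.map_units (S.presheaf.stalk s) (⟨r, hr⟩ : (hU.primeIdealOf ⟨s, hsU⟩).asIdeal.primeCompl)
      have hs' : ∀ y : Γ(S, U), σ y = (f.fiberToSpecResidueField s).appTop
          ((Scheme.ΓSpecIso (S.residueField s)).inv (S.residue s (S.presheaf.germ U s hsU y))) := fun y => by
        show ((f.app U) ≫ (f.fiberι s).appLE (f ⁻¹ᵁ U) ⊤ hle) y = _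
        rw [Scheme.Hom.app_eq_appLE, Scheme.Hom.appLE_comp_appLE,
          appLE_congr_hom (show f.fiberι s ≫ f = f.fiberToSpecResidueField s ≫ S.fromSpecResidueField s from
            pullback.condition) U ⊤ _ (fun z _ => show S.fromSpecResidueField s _ ∈ U by
              rw [Scheme.fromSpecResidueField_apply]; exact hsU),
          ← Scheme.Hom.appLE_comp_appLE _ _ U ⊤ ⊤
            (fun z _ => show S.fromSpecResidueField s z ∈ U by rw [Scheme.fromSpecResidueField_apply]; exact hsU)
            (fun _ _ => trivial), CommRingCat.comp_apply, fromSpecResidueField_appLE S s U hsU]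
        rw [Scheme.Hom.appTop, Scheme.Hom.app_eq_appLE]
        rfl
      have hc : ι.appTop (q₂.appLE ⊤ ⊤ (fun _ _ => trivial) c) =
          (f.fiberToSpecResidueField s).appTop ((Scheme.ΓSpecIso (S.residueField s)).inv c₀) := by
        rw [show q₂.appLE ⊤ ⊤ (fun _ _ => trivial) = q₂.appTop from q₂.app_eq_appLE.symm,
          ← CommRingCat.comp_apply, ← Scheme.Hom.comp_appTop, pullback.lift_snd, Scheme.Hom.comp_appTop,
          CommRingCat.comp_apply]
        refine congrArg _ ?_
        have hn := ConcreteCategory.congr_hom (Scheme.ΓSpecIso_naturality (CommRingCat.ofHom π.toRingHom)) c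
        apply (ConcreteCategory.bijective_of_isIso (Scheme.ΓSpecIso (S.residueField s)).hom).1
        rw [Iso.inv_hom_id_apply]
        exact hn
      show σ a = σ r * _
      rw [hc, hs', hs', ← map_mul, ← map_mul, ← hx, ← map_mul]
      exact congrArg (fun z => (f.fiberToSpecResidueField s).appTop
        ((Scheme.ΓSpecIso (S.residueField s)).inv (S.residue s z))) (har.symm.trans (mul_comm _ _))
  obtain ⟨r, hr, a, ha⟩ := hG t
  exact ⟨r, a, hle, hr, by rw [hte] at ha; exact ha⟩

end Groth.Agent.LeadIdem
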